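import Groth.Agent.QC.PullbackTilde
import Groth.Agent.QC.Pullback
import Groth.Agent.QC.FiniteType
import Groth.Agent.S2269
import Groth.Prelude.Def_FSch3

/-!
# Pulling back modules to a closed subscheme of an affine scheme
-/

universe u

open CategoryTheory CategoryTheory.Limits AlgebraicGeometry

set_option autoImplicit false
set_option linter.style.haveILetI false
set_option backward.isDefEq.respectTransparency false

noncomputable section

namespace Groth.Agent.FSysMod

section Ext

variable {A : Type u} [CommRing A] (K : Ideal A)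

/-- the quotient map, as a map of rings in `CommRingCat` -/
abbrev π : CommRingCat.of A ⟶ CommRingCat.of (A ⧸ K) := CommRingCat.ofHom (Ideal.Quotient.mk K)

/-- extension of scalars to the quotient -/
abbrev ext : ModuleCat.{u} A ⥤ ModuleCat.{u} (A ⧸ K) := ModuleCat.extendScalars.{u, u, u} (π K).hom

/-- restriction of scalars from the quotient -/
abbrev res : ModuleCat.{u} (A ⧸ K) ⥤ ModuleCat.{u} A := ModuleCat.restrictScalars.{u, u, u} (π K).hom

/-- the adjunction -/
abbrev adj : ext K ⊣ res K := ModuleCat.extendRestrictScalarsAdj.{u, u, u} (π K).hom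

instance : (res K).Full where
  map_surjective {X Y} g := ⟨ModuleCat.ofHom (X := X) (Y := Y)
    { toFun := g.hom
      map_add' := g.hom.map_add
      map_smul' := fun r x => by
        obtain ⟨a, rfl⟩ := Ideal.Quotient.mk_surjective r
        exact g.hom.map_smul a x }, rfl⟩

theorem smul_res (P : ModuleCat.{u} (A ⧸ K)) : K • (⊤ : Submodule A ((res K).obj P)) = ⊥ := by
  rw [eq_bot_iff, Submodule.smul_le]
  intro a ha x _
  show (Ideal.Quotient.mk K a) • (show P from x) = 0
  rw [Ideal.Quotient.eq_zero_iff_mem.2 ha, zero_smul]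

theorem isIso_unit (N : ModuleCat.{u} A) (hN : K • (⊤ : Submodule A N) = ⊥) :
    IsIso ((adj K).unit.app N) := by
  have htors : Module.IsTorsionBySet A N K := fun x a => by
    have : (a : A) • x ∈ K • (⊤ : Submodule A N) := Submodule.smul_mem_smul a.2 Submodule.mem_top
    rwa [hN, Submodule.mem_bot] at this
  letI := htors.module
  let P := ModuleCat.of (A ⧸ K) N
  let e : N ≅ (res K).obj P := LinearEquiv.toModuleIso (X₁ := N) (X₂ := (res K).obj P)
    { toFun := fun x => x, invFun := fun x => x, left_inv := fun _ => rfl, right_inv := fun _ => rfl,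
      map_add' := fun _ _ => rfl, map_smul' := fun _ _ => rfl }
  haveI : IsIso ((adj K).counit.app P) := inferInstance
  have h : (adj K).unit.app ((res K).obj P) ≫ (res K).map ((adj K).counit.app P) = 𝟙 _ :=
    (adj K).right_triangle_components P
  haveI : IsIso ((adj K).unit.app ((res K).obj P) ≫ (res K).map ((adj K).counit.app P)) := by
    rw [h]; infer_instance
  haveI : IsIso ((adj K).unit.app ((res K).obj P)) := IsIso.of_isIso_comp_right _ ((res K).map ((adj K).counit.app P))
  have hnat := (adj K).unit.naturality e.hom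
  rw [Functor.id_map] at hnat
  haveI : IsIso ((adj K).unit.app N ≫ (ext K ⋙ res K).map e.hom) := by rw [← hnat]; infer_instance
  exact IsIso.of_isIso_comp_right _ ((ext K ⋙ res K).map e.hom)

theorem ext_map_bijective (M N : ModuleCat.{u} A) (hN : K • (⊤ : Submodule A N) = ⊥) :
    Function.Bijective (fun g : M ⟶ N => (ext K).map g) := by
  haveI := isIso_unit K N hN
  have h : ∀ g : M ⟶ N, (adj K).homEquiv _ _ ((ext K).map g) = g ≫ (adj K).unit.app N := fun g => by
    rw [Adjunction.homEquiv_unit]
    exact ((adj K).unit.naturality g).symm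
  refine ⟨fun g g' e => ?_, fun φ => ⟨(adj K).homEquiv _ _ φ ≫ inv ((adj K).unit.app N), ?_⟩⟩
  · have h1 := congrArg ((adj K).homEquiv _ _) e
    rw [h, h, cancel_mono] at h1
    exact h1
  · apply ((adj K).homEquiv _ _).injective
    rw [h, Category.assoc, IsIso.inv_hom_id, Category.comp_id]

theorem unit_surjective (N : ModuleCat.{u} A) : Function.Surjective ((adj K).unit.app N).hom := by
  -- two maps out of a module killed by `K`
  have key : ∀ (x : (res K).obj ((ext K).obj N)), ∃ n : N, ((adj K).unit.app N).hom n = x := by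
    intro x
    show ∃ n : N, _ = (show TensorProduct A (A ⧸ K) N from x)
    induction (show TensorProduct A (A ⧸ K) N from x) with
    | zero => exact ⟨0, map_zero _⟩
    | tmul r n =>
      obtain ⟨a, rfl⟩ := Ideal.Quotient.mk_surjective r
      refine ⟨a • n, ?_⟩
      show (1 : A ⧸ K) ⊗ₜ[A] (a • n) = Ideal.Quotient.mk K a ⊗ₜ[A] n
      rw [← TensorProduct.smul_tmul, Algebra.smul_def, mul_one]
      rfl
    | add x y hx hy =>
      obtain ⟨n, hn⟩ := hx
      obtain ⟨m, hm⟩ := hy
      exact ⟨n + m, by rw [map_add, hn, hm]⟩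
  exact key

theorem ker_unit (N : ModuleCat.{u} A) :
    LinearMap.ker ((adj K).unit.app N).hom = K • (⊤ : Submodule A N) := by
  refine le_antisymm ?_ ?_
  · let q : N ⟶ ModuleCat.of A (N ⧸ (K • (⊤ : Submodule A N))) :=
      ModuleCat.ofHom (Submodule.mkQ _)
    have hq : K • (⊤ : Submodule A (N ⧸ (K • (⊤ : Submodule A N)))) = ⊥ := by
      rw [← Submodule.range_mkQ (K • (⊤ : Submodule A N)), ← Submodule.map_top, ← Submodule.map_smul'',
        Submodule.mkQ_map_self]
    haveI := isIso_unit K (ModuleCat.of A (N ⧸ (K • (⊤ : Submodule A N)))) hq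
    intro x hx
    have h := LinearMap.congr_fun (congrArg ModuleCat.Hom.hom ((adj K).unit.naturality q)) x
    rw [← Submodule.Quotient.mk_eq_zero]
    apply (ConcreteCategory.bijective_of_isIso ((adj K).unit.app (ModuleCat.of A (N ⧸ (K • (⊤ : Submodule A N)))))).1
    refine h.trans ?_
    show ((ext K ⋙ res K).map q).hom (((adj K).unit.app N).hom x) = _
    rw [LinearMap.mem_ker.1 hx, map_zero]
    exact (map_zero _).symm
  · rw [Submodule.smul_le]
    intro a ha x _
    have := Submodule.smul_mem_smul ha (Submodule.mem_top (x := ((adj K).unit.app N).hom x))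
    rw [smul_res K ((ext K).obj N), Submodule.mem_bot, ← map_smul] at this
    exact this

theorem isIso_ext_map_unit (N : ModuleCat.{u} A) : IsIso ((ext K).map ((adj K).unit.app N)) := by
  haveI : IsIso ((ext K).map ((adj K).unit.app N) ≫ (adj K).counit.app ((ext K).obj N)) := by
    rw [show (ext K).map ((adj K).unit.app N) ≫ (adj K).counit.app ((ext K).obj N) = 𝟙 _ from
      (adj K).left_triangle_components N]
    infer_instance
  exact IsIso.of_isIso_comp_right _ ((adj K).counit.app ((ext K).obj N))

end Ext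

section Pull

/-- pullback along an isomorphism is an equivalence -/
theorem isEquivalence_pullback {X Y : Scheme.{u}} (h : X ≅ Y) :
    (Scheme.Modules.pullback h.hom).IsEquivalence :=
  (CategoryTheory.Equivalence.mk (Scheme.Modules.pullback h.hom) (Scheme.Modules.pullback h.inv)
    ((Scheme.Modules.pullbackId Y).symm ≪≫ (Scheme.Modules.pullbackCongr h.inv_hom_id).symm ≪≫
      (Scheme.Modules.pullbackComp h.inv h.hom).symm)
    (Scheme.Modules.pullbackComp h.hom h.inv ≪≫ Scheme.Modules.pullbackCongr h.hom_inv_id ≪≫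
      Scheme.Modules.pullbackId X)).isEquivalence_functor

variable {A : Type u} [CommRing A] {K : Ideal A} {Z : Scheme.{u}} (f : Z ⟶ Spec (CommRingCat.of A))

/-- pullback of the associated sheaf -/
abbrev T : ModuleCat.{u} A ⥤ Z.Modules :=
  tilde.functor (CommRingCat.of A) ⋙ Scheme.Modules.pullback f

variable {f}

/-- comparison with extension of scalars -/
def compIso (h : Z ≅ Spec (CommRingCat.of (A ⧸ K))) (hf : h.hom ≫ Spec.map (π K) = f) :
    T f ≅ ext K ⋙ tilde.functor (CommRingCat.of (A ⧸ K)) ⋙ Scheme.Modules.pullback h.hom :=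
  Functor.isoWhiskerLeft _ ((Scheme.Modules.pullbackCongr hf).symm ≪≫
    (Scheme.Modules.pullbackComp h.hom (Spec.map (π K))).symm) ≪≫ (Functor.associator _ _ _).symm ≪≫
    Functor.isoWhiskerRight (QC.pullbackTildeIso (π K)) _ ≪≫ Functor.associator _ _ _

/-- the two conditions on a closed subscheme: it is `Spec (A ⧸ K)` over `Spec A` -/
def IsQuot (K : Ideal A) (f : Z ⟶ Spec (CommRingCat.of A)) : Prop :=
  ∃ h : Z ≅ Spec (CommRingCat.of (A ⧸ K)), h.hom ≫ Spec.map (π K) = f

variable (hq : IsQuot K f)
include hq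

theorem map_bijective (M N : ModuleCat.{u} A) (hN : K • (⊤ : Submodule A N) = ⊥) :
    Function.Bijective (fun g : M ⟶ N => (T f).map g) := by
  obtain ⟨h, hf⟩ := hq
  haveI := isEquivalence_pullback h
  let E := tilde.functor (CommRingCat.of (A ⧸ K)) ⋙ Scheme.Modules.pullback h.hom
  haveI := (tilde.fullyFaithfulFunctor (R := CommRingCat.of (A ⧸ K))).full
  haveI := (tilde.fullyFaithfulFunctor (R := CommRingCat.of (A ⧸ K))).faithful
  haveI : E.Full := inferInstance
  haveI : E.Faithful := inferInstance
  let ι := compIso h hf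
  have hb : Function.Bijective (fun g : M ⟶ N => E.map ((ext K).map g)) :=
    (Functor.FullyFaithful.ofFullyFaithful E).map_bijective _ _ |>.comp (ext_map_bijective K M N hN)
  have he : ∀ g : M ⟶ N, (T f).map g = ((ι.app M).homCongr (ι.app N)).symm (E.map ((ext K).map g)) := fun g => by
    simp only [Iso.homCongr_symm, Iso.homCongr_apply, Iso.symm_inv, Iso.symm_hom, Iso.app_hom, Iso.app_inv]
    exact (NatIso.naturality_2 ι g).symm
  rw [show (fun g : M ⟶ N => (T f).map g) =
    ((ι.app M).homCongr (ι.app N)).symm ∘ (fun g : M ⟶ N => E.map ((ext K).map g)) from funext he]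
  exact ((ι.app M).homCongr (ι.app N)).symm.bijective.comp hb

theorem exists_mkQ_iso (N : ModuleCat.{u} A) :
    IsIso ((T f).map (ModuleCat.ofHom (X := N) (Submodule.mkQ (K • (⊤ : Submodule A N))))) := by
  obtain ⟨h, hf⟩ := hq
  set q := ModuleCat.ofHom (X := N) (Submodule.mkQ (K • (⊤ : Submodule A N))) with hqd
  have key : ∀ (Y : ModuleCat.{u} A) (η : N ⟶ Y), Function.Surjective η.hom →
      LinearMap.ker η.hom = K • (⊤ : Submodule A N) → IsIso ((ext K).map η) → IsIso ((ext K).map q) := by
    intro Y η hs hk hi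
    let g : ModuleCat.of A (N ⧸ (K • (⊤ : Submodule A N))) ⟶ Y := ModuleCat.ofHom (Submodule.liftQ _ η.hom hk.ge)
    haveI : IsIso g := (ConcreteCategory.isIso_iff_bijective _).2
      ⟨LinearMap.ker_eq_bot.1 (Submodule.ker_liftQ_eq_bot _ η.hom hk.ge hk.le),
        fun y => by obtain ⟨x, rfl⟩ := hs y; exact ⟨Submodule.Quotient.mk x, rfl⟩⟩
    have hqg : q ≫ g = η := rfl
    haveI : IsIso ((ext K).map q ≫ (ext K).map g) := by rw [← Functor.map_comp, hqg]; exact hi
    exact IsIso.of_isIso_comp_right _ ((ext K).map g)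
  haveI := key _ ((adj K).unit.app N) (unit_surjective K N) (ker_unit K N) (isIso_ext_map_unit K N)
  rw [NatIso.isIso_map_iff (compIso h hf) q]
  exact inferInstanceAs (IsIso ((tilde.functor (CommRingCat.of (A ⧸ K)) ⋙ Scheme.Modules.pullback h.hom).map ((ext K).map q)))

/-- a map inverted by `T` onto a module killed by `K` -/
theorem surjective_and_ker_of_isIso {M N : ModuleCat.{u} A} (hN : K • (⊤ : Submodule A N) = ⊥) (g : M ⟶ N)
    [IsIso ((T f).map g)] : Function.Surjective g.hom ∧ LinearMap.ker g.hom = K • (⊤ : Submodule A M) := by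
  have hle : K • (⊤ : Submodule A M) ≤ LinearMap.ker g.hom := by
    rw [Submodule.smul_le]
    intro a ha x _
    have := Submodule.smul_mem_smul ha (Submodule.mem_top (R := A) (x := g.hom x))
    rw [hN, Submodule.mem_bot, ← map_smul] at this
    exact this
  let q := ModuleCat.ofHom (X := M) (Submodule.mkQ (K • (⊤ : Submodule A M)))
  let g' : ModuleCat.of A (M ⧸ (K • (⊤ : Submodule A M))) ⟶ N := ModuleCat.ofHom (Submodule.liftQ _ g.hom hle)
  have hQ : K • (⊤ : Submodule A (M ⧸ (K • (⊤ : Submodule A M)))) = ⊥ := by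
    rw [← Submodule.range_mkQ (K • (⊤ : Submodule A M)), ← Submodule.map_top, ← Submodule.map_smul'',
      Submodule.mkQ_map_self]
  have hqg : q ≫ g' = g := rfl
  haveI := exists_mkQ_iso hq M
  haveI : IsIso ((T f).map q ≫ (T f).map g') := by rw [← Functor.map_comp, hqg]; infer_instance
  haveI : IsIso ((T f).map g') := IsIso.of_isIso_comp_left ((T f).map q) _
  obtain ⟨r, hr⟩ := (map_bijective hq N _ hQ).2 (inv ((T f).map g'))
  simp only at hr
  have h1 : g' ≫ r = 𝟙 _ := (map_bijective hq _ _ hQ).1 (by
    simp only [Functor.map_comp, hr, IsIso.hom_inv_id]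
    exact ((T f).map_id _).symm)
  have h2 : r ≫ g' = 𝟙 _ := (map_bijective hq _ _ hN).1 (by
    simp only [Functor.map_comp, hr, IsIso.inv_hom_id]
    exact ((T f).map_id _).symm)
  refine ⟨fun y => ?_, le_antisymm (fun x hx => ?_) hle⟩
  · obtain ⟨x, hx⟩ := Submodule.Quotient.mk_surjective _ (r.hom y)
    exact ⟨x, (congrArg g'.hom hx).trans (LinearMap.congr_fun (congrArg ModuleCat.Hom.hom h2) y)⟩
  · rw [← Submodule.Quotient.mk_eq_zero]
    have := LinearMap.congr_fun (congrArg ModuleCat.Hom.hom h1) (Submodule.Quotient.mk x)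
    refine this.symm.trans ?_
    show r.hom (g.hom x) = _
    rw [LinearMap.mem_ker.1 hx, map_zero]

theorem exists_of_isCoh [IsNoetherianRing A] (F : Z.Modules) (hF : Coh.IsCoh F) :
    ∃ N : ModuleCat.{u} A, Module.Finite A N ∧ K • (⊤ : Submodule A N) = ⊥ ∧ Nonempty ((T f).obj N ≅ F) := by
  obtain ⟨h, hf⟩ := hq
  haveI := isEquivalence_pullback h
  let G := (Scheme.Modules.pullback h.inv).obj F
  have eG : (Scheme.Modules.pullback h.hom).obj G ≅ F :=
    (Scheme.Modules.pullbackComp h.hom h.inv ≪≫ Scheme.Modules.pullbackCongr h.hom_inv_id ≪≫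
      Scheme.Modules.pullbackId Z).app F
  obtain ⟨hGq, hGft⟩ : Coh.IsCoh G := QC.isCoh_pullback _ hF
  haveI : G.IsQuasicoherent := hGq
  haveI := QC.finite_sections (M := G) (isAffineOpen_top _) hGft
  let P : ModuleCat.{u} (A ⧸ K) := (modulesSpecToSheaf.obj G).presheaf.obj (Opposite.op ⊤)
  haveI : Module.Finite (A ⧸ K) P := QC.finite_top_of_finite_sections (R := CommRingCat.of (A ⧸ K)) G
  let N := (res K).obj P
  refine ⟨N, ?_, smul_res K P, ⟨(compIso h hf).app N ≪≫ (Scheme.Modules.pullback h.hom).mapIso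
    ((tilde.functor _).mapIso (asIso ((adj K).counit.app P)) ≪≫ QC.isoTildeΓ G) ≪≫ eG⟩⟩
  obtain ⟨r, g, hg⟩ := Module.Finite.exists_fin' (A ⧸ K) P
  let g' : (Fin r → A) →ₗ[A] N :=
    { toFun := fun x => g fun i => Ideal.Quotient.mk K (x i)
      map_add' := fun x y => by
        show g _ = g _ + g _
        rw [← map_add]; rfl
      map_smul' := fun a x => by
        show g _ = Ideal.Quotient.mk K a • g _
        rw [← map_smul]; rfl }
  refine Module.Finite.of_surjective g' fun p => ?_
  obtain ⟨c, hc⟩ := hg p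
  choose d hd using fun i => Ideal.Quotient.mk_surjective (c i)
  exact ⟨d, (congrArg g (funext hd)).trans hc⟩

end Pull

end Groth.Agent.FSysMod
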